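import Groth.Agent.QuadGrpLib.Det
import Mathlib.LinearAlgebra.Matrix.NonsingularInverse

/-!
# Polar matrices
-/

set_option autoImplicit false

universe u v

open Matrix

namespace Groth.Agent.QuadGrpLib

variable {R : Type u} [CommRing R] {M : Type v} [AddCommGroup M] [Module R M] {n : ℕ}

/-- The polar matrix of a form in a basis. -/
noncomputable def polarMat (b : Module.Basis (Fin n) R M) (Q : QuadraticForm R M) :
    Matrix (Fin n) (Fin n) R :=
  Matrix.of fun i j => QuadraticMap.polar Q (b i) (b j)

theorem polarMat_eq_polarOf (b : Module.Basis (Fin n) R M) (Q : QuadraticForm R M) :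
    polarMat b Q = polarOf (QuadGrp.coeffs b (LinearEquiv.refl R R) Q) := by
  ext i j
  rw [polarMat, Matrix.of_apply, polarOf, Matrix.of_apply, QuadGrp.coeffs_mk]
  by_cases h : i = j
  · subst h
    simp [QuadraticMap.polar_self, two_smul, two_mul]
  · simp [h]

theorem polar_eq_sum (b : Module.Basis (Fin n) R M) (Q : QuadraticForm R M) (v : M) (j : Fin n) :
    QuadraticMap.polar Q v (b j) = ∑ c, b.repr v c * polarMat b Q c j := by
  conv_lhs => rw [← b.sum_repr v, ← QuadraticMap.polarBilin_apply_apply, map_sum, LinearMap.sum_apply]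
  exact Finset.sum_congr rfl fun c _ => by rw [map_smul, LinearMap.smul_apply]; rfl

theorem exists_left_inverse_polarMat (b : Module.Basis (Fin n) R M) {Q : QuadraticForm R M}
    (hQ : QuadGrp.IsRegular Q) : ∃ Y : Matrix (Fin n) (Fin n) R, Y * polarMat b Q = 1 := by
  classical
  choose y hy using fun k => hQ.2 (b.constr R (Pi.single k 1 : Fin n → R))
  refine ⟨Matrix.of fun k c => b.repr (y k) c, ?_⟩
  ext k j
  rw [Matrix.mul_apply]
  simp only [Matrix.of_apply]
  rw [← polar_eq_sum, ← QuadraticMap.polarBilin_apply_apply, hy, Module.Basis.constr_basis,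
    Matrix.one_apply, Pi.single_apply]
  simp [eq_comm]

theorem isUnit_det_polarMat (b : Module.Basis (Fin n) R M) {Q : QuadraticForm R M}
    (hQ : QuadGrp.IsRegular Q) : IsUnit (polarMat b Q).det := by
  obtain ⟨Y, hY⟩ := exists_left_inverse_polarMat b hQ
  exact Matrix.isUnit_det_of_left_inverse hY

/-- Transformation of the polar matrix under an isometry. -/
theorem polarMat_isometry (b : Module.Basis (Fin n) R M) (Q : QuadraticForm R M) (g : M ≃ₗ[R] M)
    (hg : g ∈ QuadGrp.O Q) :
    (LinearMap.toMatrix b b g.toLinearMap).transpose * polarMat b Q * LinearMap.toMatrix b b g.toLinearMap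
      = polarMat b Q := by
  classical
  ext i j
  have h : QuadraticMap.polar Q (g (b i)) (g (b j)) = QuadraticMap.polar Q (b i) (b j) := by
    simp only [QuadraticMap.polar, ← map_add]
    rw [hg, hg, hg]
  conv_rhs => rw [polarMat, Matrix.of_apply, ← h, ← QuadraticMap.polarBilin_apply_apply,
    ← b.sum_repr (g (b i)), ← b.sum_repr (g (b j))]
  simp only [map_sum, map_smul, LinearMap.coe_sum, Finset.sum_apply, LinearMap.smul_apply,
    smul_eq_mul, Matrix.mul_apply, Matrix.transpose_apply, LinearMap.toMatrix_apply,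
    Finset.sum_mul, Finset.mul_sum, QuadraticMap.polarBilin_apply_apply]
  refine Finset.sum_congr rfl fun c _ => Finset.sum_congr rfl fun d _ => ?_
  simp only [polarMat, Matrix.of_apply, LinearEquiv.coe_coe]
  ring

end Groth.Agent.QuadGrpLib
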