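import Groth.Prelude.Def_QuadGrp
import Mathlib.LinearAlgebra.Reflection
import Mathlib.LinearAlgebra.Transvection.Basic
import Mathlib.LinearAlgebra.CliffordAlgebra.Even
import Mathlib.LinearAlgebra.CliffordAlgebra.Inversion

/-!
# Reflections of a quadratic form in anisotropic vectors
-/

set_option autoImplicit false

universe u v

open CliffordAlgebra

namespace Groth.Agent.QuadGrpLib

variable {A : Type u} [CommRing A] {N : Type v} [AddCommGroup N] [Module A N]
  (q : QuadraticForm A N)

lemma refl_aux {u : N} (hu : IsUnit (q u)) :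
    (((hu.unit⁻¹ : Aˣ) : A) • q.polarBilin u) u = 2 := by
  rw [LinearMap.smul_apply, QuadraticMap.polarBilin_apply_apply, QuadraticMap.polar_self,
    smul_eq_mul, nsmul_eq_mul, mul_left_comm, IsUnit.val_inv_mul, mul_one, Nat.cast_ofNat]

/-- The reflection in a vector on which the form is a unit. -/
noncomputable def refl {u : N} (hu : IsUnit (q u)) : N ≃ₗ[A] N :=
  Module.reflection (refl_aux q hu)

lemma refl_apply {u : N} (hu : IsUnit (q u)) (y : N) :
    refl q hu y = y - ((↑hu.unit⁻¹ : A) * QuadraticMap.polar q u y) • u := by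
  rw [refl, Module.reflection_apply]
  rfl

lemma refl_mem_O {u : N} (hu : IsUnit (q u)) : refl q hu ∈ QuadGrp.O q := by
  intro y
  set k := (↑hu.unit⁻¹ : A) * QuadraticMap.polar q u y with hk
  rw [refl_apply, ← hk, sub_eq_add_neg, ← neg_smul, QuadraticMap.map_add q, QuadraticMap.map_smul,
    QuadraticMap.polar_smul_right, QuadraticMap.polar_comm _ y u, smul_eq_mul, smul_eq_mul]
  have : k * q u = QuadraticMap.polar q u y := by
    rw [hk, mul_right_comm, IsUnit.val_inv_mul, one_mul]
  linear_combination k * this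

lemma det_refl [Module.Free A N] [Module.Finite A N] {u : N} (hu : IsUnit (q u)) :
    LinearEquiv.det (refl q hu) = -1 := by
  apply Units.ext
  rw [LinearEquiv.coe_det, Units.val_neg, Units.val_one]
  have : (refl q hu).toLinearMap =
      LinearMap.transvection (-(((hu.unit⁻¹ : Aˣ) : A) • q.polarBilin u)) u := by
    ext y
    rw [LinearEquiv.coe_coe, refl_apply, LinearMap.transvection.apply, LinearMap.neg_apply,
      neg_smul, ← sub_eq_add_neg]
    rfl
  rw [this, LinearMap.transvection.det, LinearMap.neg_apply, refl_aux]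
  norm_num

lemma refl_mul_refl_mem_SO' [Module.Free A N] [Module.Finite A N] {u v : N} (hu : IsUnit (q u))
    (hv : IsUnit (q v)) : refl q hu * refl q hv ∈ QuadGrp.SO' q := by
  refine ⟨(QuadGrp.O q).mul_mem (refl_mem_O q hu) (refl_mem_O q hv), ?_⟩
  change LinearEquiv.det _ = 1
  rw [map_mul, det_refl, det_refl, neg_mul_neg, one_mul]

lemma ι_refl_mul {u : N} (hu : IsUnit (q u)) (y : N) :
    ι q (refl q hu y) * ι q u = -(ι q u * ι q y) := by
  rw [refl_apply, map_sub, map_smul, sub_mul, smul_mul_assoc, ι_sq_scalar, Algebra.smul_def,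
    ← map_mul (algebraMap A (CliffordAlgebra q)), mul_right_comm, IsUnit.val_inv_mul, one_mul,
    QuadraticMap.polar_comm q u y, ← ι_mul_ι_add_swap]
  abel

lemma refl_mul_refl_mem_SOeven {u v : N} (hu : IsUnit (q u)) (hv : IsUnit (q v)) :
    refl q hu * refl q hv ∈ QuadGrp.SOeven q := by
  have hg : refl q hu * refl q hv ∈ QuadGrp.O q :=
    (QuadGrp.O q).mul_mem (refl_mem_O q hu) (refl_mem_O q hv)
  refine ⟨hg, fun z hz => ?_⟩
  let f := CliffordAlgebra.map (QuadGrp.isometryOfMem q _ hg)
  have hc : ∀ x : CliffordAlgebra q, f x * (ι q u * ι q v) = (ι q u * ι q v) * x := by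
    intro x
    induction x using CliffordAlgebra.induction with
    | algebraMap r => rw [AlgHom.commutes, Algebra.commutes]
    | ι y =>
      rw [show f (ι q y) = ι q ((refl q hu * refl q hv) y) from map_apply_ι _ _,
        LinearEquiv.mul_apply, ← mul_assoc, ι_refl_mul, neg_mul, mul_assoc, ι_refl_mul, mul_neg,
        neg_neg, mul_assoc]
    | mul a b ha hb => rw [map_mul, mul_assoc, hb, ← mul_assoc, ha, mul_assoc]
    | add a b ha hb => rw [map_add, add_mul, ha, hb, mul_add]
  have hmem : ι q u * ι q v ∈ CliffordAlgebra.even q := ι_mul_ι_mem_evenOdd_zero q u v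
  have h1 := congrArg Subtype.val ((Subalgebra.mem_center_iff.1 hz) ⟨_, hmem⟩)
  have h2 := hc (z : CliffordAlgebra q)
  rw [show (ι q u * ι q v) * (z : CliffordAlgebra q) = (z : CliffordAlgebra q) * (ι q u * ι q v)
    from h1] at h2
  exact ((isUnit_ι_of_isUnit q hu).mul (isUnit_ι_of_isUnit q hv)).mul_right_cancel h2

lemma refl_mul_refl_mem_SO [Module.Free A N] [Module.Finite A N] {u v : N} (hu : IsUnit (q u))
    (hv : IsUnit (q v)) : refl q hu * refl q hv ∈ QuadGrp.SO q := by
  unfold QuadGrp.SO
  split_ifs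
  · exact refl_mul_refl_mem_SOeven q hu hv
  · exact refl_mul_refl_mem_SO' q hu hv

end Groth.Agent.QuadGrpLib
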