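import Groth.Agent.QuadGrpLib.Nzd
import Groth.Agent.QuadGrpLib.Refl
import Mathlib.RingTheory.Flat.Basic
import Mathlib.RingTheory.Localization.Away.Basic
import Mathlib.RingTheory.TensorProduct.Free

/-!
# Commuting with the products of two generic reflections
-/

set_option autoImplicit false
set_option backward.isDefEq.respectTransparency false

universe u v

open TensorProduct MvPolynomial

namespace Groth.Agent.QuadGrpLib

variable {R : Type u} [CommRing R] {M : Type v} [AddCommGroup M] [Module R M]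

section Functoriality

variable {A : Type u} [CommRing A] [Algebra R A] {A' : Type u} [CommRing A'] [Algebra R A']
  (φ : A →ₐ[R] A')

/-- Change of the coefficient algebra. -/
noncomputable def chg : A ⊗[R] M →ₗ[R] A' ⊗[R] M := φ.toLinearMap.rTensor M

@[simp] lemma chg_tmul (a : A) (x : M) : chg φ (a ⊗ₜ[R] x) = φ a ⊗ₜ[R] x := rfl

lemma chg_smul (a : A) (z : A ⊗[R] M) : chg φ (a • z) = φ a • chg φ z := by
  induction z using TensorProduct.induction_on with
  | zero => simp
  | tmul b x => simp [smul_tmul']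
  | add z w hz hw => rw [smul_add, map_add, map_add, hz, hw, smul_add]

lemma chg_baseChange (g : M ≃ₗ[R] M) (z : A ⊗[R] M) :
    chg φ (g.baseChange R A M M z) = g.baseChange R A' M M (chg φ z) := by
  induction z using TensorProduct.induction_on with
  | zero => simp only [map_zero]
  | tmul b x => rfl
  | add z w hz hw => simp only [map_add, hz, hw]

variable [Module.Free R M] (Q : QuadraticForm R M)

/-- The bilinear form behind the base change of a quadratic form. -/
noncomputable def bil (A : Type u) [CommRing A] [Algebra R A] (z w : A ⊗[R] M) : A :=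
  AlgebraTensorModule.rid R A A ((QuadGrp.bilinLift Q).baseChange A z w)

lemma baseChangeForm_eq (z : A ⊗[R] M) : QuadGrp.baseChangeForm A Q z = bil Q A z z := rfl

lemma bil_chg (z w : A ⊗[R] M) : bil Q A' (chg φ z) (chg φ w) = φ (bil Q A z w) := by
  induction z using TensorProduct.induction_on with
  | zero => simp [bil]
  | tmul a x =>
    induction w using TensorProduct.induction_on with
    | zero => simp [bil]
    | tmul a' y => simp [bil, LinearMap.BilinMap.baseChange_tmul, map_smul, map_mul]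
    | add w₁ w₂ h₁ h₂ => simp only [bil, map_add] at h₁ h₂ ⊢; rw [h₁, h₂]
  | add z₁ z₂ h₁ h₂ =>
    simp only [bil, map_add, LinearMap.add_apply] at h₁ h₂ ⊢; rw [h₁, h₂]

lemma baseChangeForm_chg (z : A ⊗[R] M) :
    QuadGrp.baseChangeForm A' Q (chg φ z) = φ (QuadGrp.baseChangeForm A Q z) :=
  bil_chg φ Q z z

lemma polar_chg (z w : A ⊗[R] M) :
    QuadraticMap.polar (QuadGrp.baseChangeForm A' Q) (chg φ z) (chg φ w) =
      φ (QuadraticMap.polar (QuadGrp.baseChangeForm A Q) z w) := by
  simp only [QuadraticMap.polar, ← map_add (chg φ), baseChangeForm_chg, map_sub]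

lemma baseChangeForm_one_tmul (x : M) :
    QuadGrp.baseChangeForm A Q ((1 : A) ⊗ₜ[R] x) = algebraMap R A (Q x) := by
  change AlgebraTensorModule.rid R A A (QuadGrp.baseChange A Q ((1 : A) ⊗ₜ[R] x)) = _
  rw [QuadGrp.baseChange_tmul, AlgebraTensorModule.rid_tmul, mul_one, ← Algebra.algebraMap_eq_smul_one]

lemma polar_one_tmul (x y : M) :
    QuadraticMap.polar (QuadGrp.baseChangeForm A Q) ((1 : A) ⊗ₜ[R] x) ((1 : A) ⊗ₜ[R] y) =
      algebraMap R A (QuadraticMap.polar Q x y) := by
  simp only [QuadraticMap.polar, ← tmul_add, baseChangeForm_one_tmul, map_sub]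

lemma mem_orth_iff (h : (A ⊗[R] M) ≃ₗ[A] (A ⊗[R] M)) :
    h ∈ QuadGrp.orth Q A ↔ h ∈ QuadGrp.O (QuadGrp.baseChangeForm A Q) :=
  ⟨fun hh v => congrArg (AlgebraTensorModule.rid R A A) (hh v),
    fun hh v => (AlgebraTensorModule.rid R A A).injective (hh v)⟩

end Functoriality

section Key

variable (g : M ≃ₗ[R] M) [Module.Free R M] (Q : QuadraticForm R M)

/-- The obstruction to commuting with reflections. -/
noncomputable def obs (A : Type u) [CommRing A] [Algebra R A] (x : M) (U V : A ⊗[R] M) :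
    A ⊗[R] M :=
  QuadraticMap.polar (QuadGrp.baseChangeForm A Q) U ((1 : A) ⊗ₜ[R] x) • g.baseChange R A M M V
    - QuadraticMap.polar (QuadGrp.baseChangeForm A Q) V ((1 : A) ⊗ₜ[R] x) • g.baseChange R A M M U
    - QuadraticMap.polar (QuadGrp.baseChangeForm A Q) U ((1 : A) ⊗ₜ[R] g x) • V
    + QuadraticMap.polar (QuadGrp.baseChangeForm A Q) V ((1 : A) ⊗ₜ[R] g x) • U

lemma obs_chg {A A' : Type u} [CommRing A] [Algebra R A] [CommRing A'] [Algebra R A']
    (φ : A →ₐ[R] A') (x : M) (U V : A ⊗[R] M) :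
    chg φ (obs g Q A x U V) = obs g Q A' x (chg φ U) (chg φ V) := by
  have h1 : ∀ y : M, chg φ ((1 : A) ⊗ₜ[R] y) = (1 : A') ⊗ₜ[R] y := fun y => by
    rw [chg_tmul, map_one]
  simp only [obs, map_add, map_sub, chg_smul, chg_baseChange, ← polar_chg φ Q, h1]

/-- `g` commutes with all products of two reflections, over all algebras. -/
def CommRefl : Prop :=
  ∀ (A : Type u) [CommRing A] [Algebra R A] (U V : A ⊗[R] M)
    (hU : IsUnit (QuadGrp.baseChangeForm A Q U)) (hV : IsUnit (QuadGrp.baseChangeForm A Q V))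
    (y : A ⊗[R] M),
    g.baseChange R A M M (refl _ hU (refl _ hV y)) = refl _ hU (refl _ hV (g.baseChange R A M M y))

variable {g Q}

lemma obs_mul_eq_zero (H : CommRefl g Q) {A : Type u} [CommRing A] [Algebra R A] (x : M)
    (U V : A ⊗[R] M) (hU : IsUnit (QuadGrp.baseChangeForm A Q U))
    (hV : IsUnit (QuadGrp.baseChangeForm A Q V)) :
    QuadraticMap.polar (QuadGrp.baseChangeForm A Q) U V • obs g Q A x U V = 0 := by
  have h1 := H A U V hU hV ((1 : A) ⊗ₜ[R] x)
  have h2 := H A V U hV hU ((1 : A) ⊗ₜ[R] x)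
  rw [LinearEquiv.baseChange_tmul] at h1 h2
  simp only [refl_apply, map_sub, map_smul, QuadraticMap.polar_sub_right,
    QuadraticMap.polar_smul_right, smul_eq_mul] at h1 h2
  rw [QuadraticMap.polar_comm _ V U] at h2
  set ai : A := (↑hU.unit⁻¹ : A) with hai
  set ci : A := (↑hV.unit⁻¹ : A) with hci
  have ha : QuadGrp.baseChangeForm A Q U * ai = 1 := IsUnit.mul_val_inv hU
  have hc : QuadGrp.baseChangeForm A Q V * ci = 1 := IsUnit.mul_val_inv hV
  set a : A := QuadGrp.baseChangeForm A Q U
  set c : A := QuadGrp.baseChangeForm A Q V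
  set β : A := QuadraticMap.polar (QuadGrp.baseChangeForm A Q) U V
  have hk : (ai * ci) • (β • obs g Q A x U V) = 0 := by
    simp only [obs]
    linear_combination (norm := module) h2 - h1
  have := congrArg ((a * c) • ·) hk
  simp only [smul_zero, smul_smul] at this
  rw [show a * c * (ai * ci * β) = β by rw [← mul_assoc, mul_mul_mul_comm, ha, hc, one_mul, one_mul]] at this
  exact this

end Key

section Eval

variable {n : ℕ} (b : Module.Basis (Fin n) R M)

/-- The first generic vector. -/
noncomputable def gen (s : Fin n → Fin n ⊕ Fin n) :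
    MvPolynomial (Fin n ⊕ Fin n) R ⊗[R] M :=
  ∑ i, X (s i) ⊗ₜ[R] b i

lemma chg_gen (s : Fin n → Fin n ⊕ Fin n) (w : Fin n ⊕ Fin n → R) (u : M)
    (h : ∀ i, w (s i) = b.repr u i) : chg (aeval w) (gen b s) = (1 : R) ⊗ₜ[R] u := by
  rw [gen, map_sum]
  conv_rhs => rw [← b.sum_repr u, tmul_sum]
  refine Finset.sum_congr rfl fun i _ => ?_
  rw [chg_tmul, aeval_X, h, tmul_smul, smul_tmul', smul_eq_mul, mul_one]

variable {g : M ≃ₗ[R] M} [Module.Free R M] {Q : QuadraticForm R M}

include b in
/-- The pointwise identity following from commutation with products of reflections. -/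
theorem pointwise_of_commRefl (H : CommRefl g Q)
    (hspan : Ideal.span (Set.range fun p : M × M => QuadraticMap.polar Q p.1 p.2) = ⊤)
    (x u v : M) :
    QuadraticMap.polar Q u x • g v - QuadraticMap.polar Q v x • g u =
      QuadraticMap.polar Q u (g x) • v - QuadraticMap.polar Q v (g x) • u := by
  classical
  haveI : Module.Finite R M := Module.Finite.of_basis b
  set U := MvPolynomial (Fin n ⊕ Fin n) R
  let X₁ : U ⊗[R] M := gen b Sum.inl
  let X₂ : U ⊗[R] M := gen b Sum.inr
  have e1 : ∀ u v : M, chg (aeval (Sum.elim (b.repr u) (b.repr v))) X₁ = (1 : R) ⊗ₜ[R] u :=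
    fun u v => chg_gen b _ _ u fun i => rfl
  have e2 : ∀ u v : M, chg (aeval (Sum.elim (b.repr u) (b.repr v))) X₂ = (1 : R) ⊗ₜ[R] v :=
    fun u v => chg_gen b _ _ v fun i => rfl
  have hQspan : Ideal.span (Set.range Q) = ⊤ := by
    rw [eq_top_iff, ← hspan, Ideal.span_le]
    rintro _ ⟨⟨y, z⟩, rfl⟩
    have hm : ∀ y : M, Q y ∈ Ideal.span (Set.range Q) := fun y => Ideal.subset_span ⟨y, rfl⟩
    exact Ideal.sub_mem _ (Ideal.sub_mem _ (hm _) (hm _)) (hm _)
  have hnzd : ∀ p : U, (∀ w : M × M, eval (Sum.elim (b.repr w.1) (b.repr w.2)) p ∈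
        Set.range fun v => eval v p) →
      Ideal.span (Set.range fun w : M × M => eval (Sum.elim (b.repr w.1) (b.repr w.2)) p) = ⊤ →
      p ∈ nonZeroDivisors U := fun p hp hp' => by
    refine mem_nonZeroDivisors_of_eval p (eq_top_iff.2 (hp' ▸ Ideal.span_mono ?_))
    rintro _ ⟨w, rfl⟩
    exact hp w
  have hev : ∀ (p : U) (w : Fin n ⊕ Fin n → R), eval w p = aeval w p := fun p w =>
    (DFunLike.congr_fun (coe_aeval_eq_eval w) p).symm
  set qU := QuadGrp.baseChangeForm U Q X₁ with hqU
  set qV := QuadGrp.baseChangeForm U Q X₂ with hqV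
  set β := QuadraticMap.polar (QuadGrp.baseChangeForm U Q) X₁ X₂ with hβ
  have hU' : qU ∈ nonZeroDivisors U := by
    refine hnzd _ (fun w => ⟨_, rfl⟩) (eq_top_iff.2 (hQspan ▸ Ideal.span_le.2 ?_))
    rintro _ ⟨y, rfl⟩
    refine Ideal.subset_span ⟨(y, 0), ?_⟩
    dsimp only
    rw [hev, hqU, ← baseChangeForm_chg (aeval _) Q, e1, baseChangeForm_one_tmul,
      Algebra.algebraMap_self, RingHom.id_apply]
  have hV' : qV ∈ nonZeroDivisors U := by
    refine hnzd _ (fun w => ⟨_, rfl⟩) (eq_top_iff.2 (hQspan ▸ Ideal.span_le.2 ?_))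
    rintro _ ⟨y, rfl⟩
    refine Ideal.subset_span ⟨(0, y), ?_⟩
    dsimp only
    rw [hev, hqV, ← baseChangeForm_chg (aeval _) Q, e2, baseChangeForm_one_tmul,
      Algebra.algebraMap_self, RingHom.id_apply]
  have hβ' : β ∈ nonZeroDivisors U := by
    refine hnzd _ (fun w => ⟨_, rfl⟩) (eq_top_iff.2 (hspan ▸ Ideal.span_le.2 ?_))
    rintro _ ⟨y, rfl⟩
    refine Ideal.subset_span ⟨y, ?_⟩
    dsimp only
    rw [hev, hβ, ← polar_chg (aeval _) Q, e1, e2, polar_one_tmul, Algebra.algebraMap_self,
      RingHom.id_apply]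
  let A := Localization.Away (qU * qV)
  let ψ : U →ₐ[R] A := IsScalarTower.toAlgHom R U A
  have hψ : Function.Injective ψ :=
    IsLocalization.injective A (Submonoid.powers_le.2 (Submonoid.mul_mem _ hU' hV'))
  have hunit : IsUnit (ψ (qU * qV)) := IsLocalization.Away.algebraMap_isUnit (S := A) (qU * qV)
  rw [map_mul, IsUnit.mul_iff] at hunit
  have h0 := obs_mul_eq_zero H x (chg ψ X₁) (chg ψ X₂)
    (by rw [baseChangeForm_chg]; exact hunit.1) (by rw [baseChangeForm_chg]; exact hunit.2)
  rw [polar_chg, ← obs_chg, ← chg_smul, ← map_zero (chg ψ)] at h0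
  have h1 := Module.Flat.rTensor_preserves_injective_linearMap (M := M) ψ.toLinearMap hψ h0
  have h2 : obs g Q U x X₁ X₂ = 0 := by
    refine (Algebra.TensorProduct.basis U b).ext_elem fun i => ?_
    have := congrArg (fun z => (Algebra.TensorProduct.basis U b).repr z i) h1
    simp only [map_smul, Finsupp.smul_apply, smul_eq_mul, map_zero, Finsupp.zero_apply] at this ⊢
    exact (mem_nonZeroDivisors_iff.1 hβ').1 _ this
  have h3 := congrArg (fun z => TensorProduct.lid R M
    (chg (aeval (Sum.elim (b.repr u) (b.repr v))) z)) h2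
  rw [obs_chg, e1, e2, map_zero, map_zero] at h3
  simp only [obs, polar_one_tmul, Algebra.algebraMap_self, RingHom.id_apply,
    LinearEquiv.baseChange_tmul, map_add, map_sub, map_smul, TensorProduct.lid_tmul, one_smul] at h3
  linear_combination (norm := module) h3

end Eval

end Groth.Agent.QuadGrpLib
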