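import Groth.Prelude.Def_QuadGrp
import Mathlib.Algebra.CharP.Two
import Mathlib.Data.ZMod.Basic
import Mathlib.RingTheory.Polynomial.Basic
import Mathlib.GroupTheory.Perm.Sign

/-!
# Determinants of alternating matrices in characteristic two, and the half-discriminant
-/

set_option autoImplicit false

universe u v

open Matrix

namespace Groth.Agent.QuadGrpLib

section Alternating

variable {R : Type u} [CommRing R] {n : ℕ}

/-- The fixed point free involutions. -/
def matchings (n : ℕ) : Finset (Equiv.Perm (Fin n)) :=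
  Finset.univ.filter fun σ => σ * σ = 1 ∧ ∀ i, σ i ≠ i

/-- The Pfaffian modulo two. -/
def pf (P : Matrix (Fin n) (Fin n) R) : R :=
  ∑ σ ∈ matchings n, ∏ i ∈ Finset.univ.filter (fun i => i < σ i), P i (σ i)

lemma prod_involution (P : Matrix (Fin n) (Fin n) R) (hs : ∀ i j, P i j = P j i)
    {σ : Equiv.Perm (Fin n)} (h1 : σ * σ = 1) (h2 : ∀ i, σ i ≠ i) :
    ∏ i, P (σ i) i = (∏ i ∈ Finset.univ.filter (fun i => i < σ i), P i (σ i)) ^ 2 := by
  classical
  have hσ : ∀ i, σ (σ i) = i := fun i => by rw [← Equiv.Perm.mul_apply, h1]; rfl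
  rw [← Finset.prod_filter_mul_prod_filter_not Finset.univ (fun i => i < σ i) (fun i => P (σ i) i),
    sq]
  congr 1
  · exact Finset.prod_congr rfl fun i _ => hs _ _
  · refine Finset.prod_nbij' (fun i => σ i) (fun i => σ i) ?_ ?_ (fun i _ => hσ i) (fun i _ => hσ i) ?_
    · intro i hi
      simp only [Finset.coe_filter, Finset.mem_filter, Finset.mem_univ, true_and, not_lt, Set.mem_setOf_eq] at hi ⊢
      rw [hσ]
      exact lt_of_le_of_ne hi (h2 i)
    · intro i hi
      simp only [Finset.coe_filter, Finset.mem_filter, Finset.mem_univ, true_and, not_lt, Set.mem_setOf_eq] at hi ⊢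
      rw [hσ]
      exact le_of_lt hi
    · intro i _
      rw [hσ]

/-- In characteristic two the determinant of an alternating matrix is the square of its Pfaffian. -/
theorem det_eq_pf_sq (h2 : (2 : R) = 0) (P : Matrix (Fin n) (Fin n) R)
    (hd : ∀ i, P i i = 0) (hs : ∀ i j, P i j = P j i) : P.det = pf P ^ 2 := by
  classical
  have hneg : ∀ x : R, -x = x := fun x => by linear_combination (-x) * h2
  have hsign : ∀ (s : ℤˣ) (x : R), s • x = x := fun s x => by
    rcases Int.units_eq_one_or s with rfl | rfl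
    · exact one_smul _ x
    · rw [Units.neg_smul, one_smul, hneg]
  rw [Matrix.det_apply]
  simp only [hsign]
  have hinv : ∀ σ : Equiv.Perm (Fin n), ∏ i, P (σ i) i = ∏ i, P (σ⁻¹ i) i := fun σ => by
    rw [← Equiv.prod_comp σ fun i => P (σ⁻¹ i) i]
    exact Finset.prod_congr rfl fun i _ => by rw [Equiv.Perm.inv_def, Equiv.symm_apply_apply, hs]
  rw [← Finset.sum_filter_add_sum_filter_not Finset.univ (fun σ : Equiv.Perm (Fin n) => σ ∈ matchings n)]
  rw [Finset.filter_univ_mem]
  have hrest : ∑ σ ∈ Finset.univ.filter (fun σ : Equiv.Perm (Fin n) => σ ∉ matchings n), ∏ i, P (σ i) i = 0 := by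
    refine Finset.sum_involution (fun σ _ => σ⁻¹) (fun σ _ => ?_) (fun σ hσ hne h => ?_)
      (fun σ hσ => ?_) (fun σ _ => inv_inv σ)
    · rw [← hinv, ← two_mul, h2, zero_mul]
    · simp only [Finset.mem_filter, Finset.mem_univ, true_and, matchings, not_and, not_forall,
        not_not] at hσ
      obtain ⟨i, hi⟩ := hσ (by rw [mul_eq_one_iff_eq_inv]; exact h.symm)
      exact hne (Finset.prod_eq_zero (Finset.mem_univ i) (by rw [hi, hd]))
    · simp only [Finset.mem_filter, Finset.mem_univ, true_and, matchings, not_and, not_forall,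
        not_not] at hσ ⊢
      intro h
      obtain ⟨i, hi⟩ := hσ (by simpa using congrArg (·⁻¹) h)
      exact ⟨i, by rw [Equiv.Perm.inv_eq_iff_eq, hi]⟩
  rw [hrest, add_zero, pf]
  have hadd : ∀ (s : Finset (Equiv.Perm (Fin n))) (f : Equiv.Perm (Fin n) → R),
      (∑ σ ∈ s, f σ) ^ 2 = ∑ σ ∈ s, f σ ^ 2 := by
    intro s f
    induction s using Finset.induction_on with
    | empty => simp
    | insert a s ha ih =>
      rw [Finset.sum_insert ha, Finset.sum_insert ha, ← ih]
      linear_combination (f a * ∑ σ ∈ s, f σ) * h2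
  rw [hadd]
  refine Finset.sum_congr rfl fun σ hσ => ?_
  simp only [matchings, Finset.mem_filter, Finset.mem_univ, true_and] at hσ
  exact prod_involution P hs hσ.1 hσ.2

theorem pf_eq_zero_of_odd (hn : Odd n) (P : Matrix (Fin n) (Fin n) R) : pf P = 0 := by
  classical
  rw [pf, show matchings n = ∅ from ?_, Finset.sum_empty]
  refine Finset.eq_empty_iff_forall_notMem.2 fun σ hσ => ?_
  simp only [matchings, Finset.mem_filter, Finset.mem_univ, true_and] at hσ
  have hσσ : ∀ i, σ (σ i) = i := fun i => by rw [← Equiv.Perm.mul_apply, hσ.1]; rfl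
  have hcard : (Finset.univ.filter fun i => i < σ i).card = (Finset.univ.filter fun i => ¬ i < σ i).card := by
    refine Finset.card_nbij' (fun i => σ i) (fun i => σ i) ?_ ?_ (fun i _ => hσσ i) (fun i _ => hσσ i)
    · intro i hi
      simp only [Finset.coe_filter, Finset.mem_univ, true_and, not_lt, Set.mem_setOf_eq] at hi ⊢
      rw [hσσ]
      exact le_of_lt hi
    · intro i hi
      simp only [Finset.coe_filter, Finset.mem_univ, true_and, not_lt, Set.mem_setOf_eq] at hi ⊢
      rw [hσσ]
      exact lt_of_le_of_ne hi (hσ.2 i)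
  have htot := Finset.card_filter_add_card_filter_not (s := (Finset.univ : Finset (Fin n))) (fun i => i < σ i)
  rw [Finset.card_univ, Fintype.card_fin] at htot
  obtain ⟨t, ht⟩ := hn
  omega

end Alternating

section HalfDisc

open MvPolynomial

lemma map_univPolarMat {n : ℕ} {S : Type u} [CommRing S] (f : MvPolynomial (Sym2 (Fin n)) ℤ →+* S)
    (i j : Fin n) : (QuadGrp.univPolarMat n).map f i j =
      if i = j then 2 * f (X (Sym2.mk i j)) else f (X (Sym2.mk i j)) := by
  rw [Matrix.map_apply, QuadGrp.univPolarMat, Matrix.of_apply]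
  split_ifs
  · rw [map_mul, map_ofNat]
  · rfl

theorem two_mul_halfDiscUniv {n : ℕ} (hn : Odd n) :
    2 * QuadGrp.halfDiscUniv n = QuadGrp.discUniv n := by
  classical
  let f : MvPolynomial (Sym2 (Fin n)) ℤ →+* MvPolynomial (Sym2 (Fin n)) (ZMod 2) :=
    MvPolynomial.map (Int.castRingHom (ZMod 2))
  have h0 : f (QuadGrp.discUniv n) = 0 := by
    have h2 : (2 : MvPolynomial (Sym2 (Fin n)) (ZMod 2)) = 0 := by
      rw [← map_ofNat C 2, show (2 : ZMod 2) = 0 from rfl, map_zero]
    rw [QuadGrp.discUniv, RingHom.map_det, RingHom.mapMatrix_apply, det_eq_pf_sq h2,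
      pf_eq_zero_of_odd hn, zero_pow two_ne_zero]
    · intro i; rw [map_univPolarMat, if_pos rfl, h2, zero_mul]
    · intro i j
      rw [map_univPolarMat, map_univPolarMat, Sym2.eq_swap]
      by_cases h : i = j
      · subst h; rfl
      · rw [if_neg h, if_neg (Ne.symm h)]
  ext d
  rw [show (2 : MvPolynomial (Sym2 (Fin n)) ℤ) = C 2 from (map_ofNat C 2).symm, coeff_C_mul,
    QuadGrp.coeff_halfDiscUniv]
  refine Int.mul_ediv_cancel' ((ZMod.intCast_zmod_eq_zero_iff_dvd _ 2).1 ?_)
  have := congrArg (coeff d) h0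
  rwa [coeff_map, coeff_zero] at this

/-- The half-discriminant of a coefficient table. -/
noncomputable def hd {R : Type u} [CommRing R] {n : ℕ} (a : Sym2 (Fin n) → R) : R :=
  eval₂ (Int.castRingHom R) a (QuadGrp.halfDiscUniv n)

/-- The polar matrix of a coefficient table. -/
def polarOf {R : Type u} [CommRing R] {n : ℕ} (a : Sym2 (Fin n) → R) : Matrix (Fin n) (Fin n) R :=
  Matrix.of fun i j => if i = j then 2 * a (Sym2.mk i j) else a (Sym2.mk i j)

theorem two_mul_hd {R : Type u} [CommRing R] {n : ℕ} (hn : Odd n) (a : Sym2 (Fin n) → R) :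
    2 * hd a = (polarOf a).det := by
  have h := congrArg (eval₂Hom (Int.castRingHom R) a) (two_mul_halfDiscUniv hn)
  rw [map_mul, map_ofNat] at h
  rw [hd, ← coe_eval₂Hom, h, QuadGrp.discUniv, RingHom.map_det]
  congr 1
  ext i j
  rw [RingHom.mapMatrix_apply, map_univPolarMat, polarOf, Matrix.of_apply, eval₂Hom_X']

theorem map_hd {R : Type u} [CommRing R] {S : Type v} [CommRing S] {n : ℕ} (f : R →+* S)
    (a : Sym2 (Fin n) → R) : f (hd a) = hd (f ∘ a) := by
  rw [hd, hd, eval₂_comp_left f]
  congr 1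
  exact RingHom.ext_int _ _

theorem map_polarOf {R : Type u} [CommRing R] {S : Type v} [CommRing S] {n : ℕ} (f : R →+* S)
    (a : Sym2 (Fin n) → R) : (polarOf a).map f = polarOf (f ∘ a) := by
  ext i j
  simp only [Matrix.map_apply, polarOf, Matrix.of_apply, Function.comp_apply]
  split_ifs
  · rw [map_mul, map_ofNat]
  · rfl

/-- The coefficient table of the form `x ↦ xᵀ B x`. -/
def co {R : Type u} [CommRing R] {n : ℕ} (B : Matrix (Fin n) (Fin n) R) : Sym2 (Fin n) → R :=
  Sym2.lift ⟨fun i j => if i = j then B i i else B i j + B j i, fun i j => by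
    by_cases h : i = j
    · subst h; rfl
    · simp only [if_neg h, if_neg (Ne.symm h), add_comm]⟩

theorem co_mk {R : Type u} [CommRing R] {n : ℕ} (B : Matrix (Fin n) (Fin n) R) (i j : Fin n) :
    co B (Sym2.mk i j) = if i = j then B i i else B i j + B j i := rfl

theorem polarOf_co {R : Type u} [CommRing R] {n : ℕ} (B : Matrix (Fin n) (Fin n) R) :
    polarOf (co B) = B + B.transpose := by
  ext i j
  simp only [polarOf, Matrix.of_apply, co_mk, Matrix.add_apply, Matrix.transpose_apply]
  by_cases h : i = j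
  · subst h; simp [two_mul]
  · simp [h]

theorem map_co {R : Type u} [CommRing R] {S : Type v} [CommRing S] {n : ℕ} (f : R →+* S)
    (B : Matrix (Fin n) (Fin n) R) : f ∘ co B = co (B.map f) := by
  funext z
  induction z using Sym2.ind with
  | h i j =>
    simp only [Function.comp_apply, co_mk, Matrix.map_apply]
    split_ifs
    · rfl
    · exact map_add f _ _

theorem coeffs_eq_co {R : Type u} [CommRing R] {M : Type v} [AddCommGroup M] [Module R M] {n : ℕ}
    (b : Module.Basis (Fin n) R M) (Q : QuadraticForm R M) (B : LinearMap.BilinMap R M R)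
    (hB : B.toQuadraticMap = Q) :
    QuadGrp.coeffs b (LinearEquiv.refl R R) Q = co (Matrix.of fun i j => B (b i) (b j)) := by
  funext z
  induction z using Sym2.ind with
  | h i j =>
    rw [QuadGrp.coeffs_mk, co_mk, ← hB]
    simp only [LinearEquiv.refl_apply, Matrix.of_apply, LinearMap.BilinMap.polar_toQuadraticMap,
      LinearMap.BilinMap.toQuadraticMap_apply]

/-- Behaviour of the half-discriminant under a linear substitution. -/
theorem hd_substitution {R : Type u} [CommRing R] {m : ℕ}
    (B G : Matrix (Fin (2 * m + 1)) (Fin (2 * m + 1)) R) :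
    hd (co (G.transpose * B * G)) = G.det ^ 2 * hd (co B) := by
  classical
  let U := MvPolynomial ((Fin (2 * m + 1) × Fin (2 * m + 1)) ⊕ (Fin (2 * m + 1) × Fin (2 * m + 1))) ℤ
  let B₀ : Matrix (Fin (2 * m + 1)) (Fin (2 * m + 1)) U := Matrix.of fun i j => X (Sum.inl (i, j))
  let G₀ : Matrix (Fin (2 * m + 1)) (Fin (2 * m + 1)) U := Matrix.of fun i j => X (Sum.inr (i, j))
  have hodd : Odd (2 * m + 1) := ⟨m, rfl⟩
  have huniv : hd (co (G₀.transpose * B₀ * G₀)) = G₀.det ^ 2 * hd (co B₀) := by
    have h2 : (2 : U) ≠ 0 := fun h => by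
      have := congrArg (constantCoeff : U →+* ℤ) h
      simp [map_ofNat] at this
    apply mul_left_cancel₀ h2
    rw [two_mul_hd hodd, mul_left_comm, two_mul_hd hodd, polarOf_co, polarOf_co]
    rw [show G₀.transpose * B₀ * G₀ + (G₀.transpose * B₀ * G₀).transpose =
      G₀.transpose * (B₀ + B₀.transpose) * G₀ by
        rw [Matrix.transpose_mul, Matrix.transpose_mul, Matrix.transpose_transpose, Matrix.mul_add,
          Matrix.add_mul, Matrix.mul_assoc G₀.transpose B₀.transpose], Matrix.det_mul,
      Matrix.det_mul, Matrix.det_transpose]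
    ring
  let f : U →+* R := eval₂Hom (Int.castRingHom R) (Sum.elim (fun p => B p.1 p.2) fun p => G p.1 p.2)
  have hB : B₀.map f = B := by ext i j; exact eval₂Hom_X' _ _ _
  have hG : G₀.map f = G := by ext i j; exact eval₂Hom_X' _ _ _
  have h := congrArg f huniv
  rw [map_mul, map_pow, RingHom.map_det, RingHom.mapMatrix_apply, map_hd, map_hd, map_co, map_co,
    Matrix.map_mul, Matrix.map_mul, Matrix.transpose_map, hB, hG] at h
  exact h

theorem halfDisc_comp {R : Type u} [CommRing R] {M : Type v} [AddCommGroup M] [Module R M]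
    (m : ℕ) (b : Module.Basis (Fin (2 * m + 1)) R M) (Q : QuadraticForm R M) (g : M →ₗ[R] M) :
    QuadGrp.halfDisc b (LinearEquiv.refl R R) (Q.comp g) =
      LinearMap.det g ^ 2 * QuadGrp.halfDisc b (LinearEquiv.refl R R) Q := by
  classical
  haveI := Module.Free.of_basis b
  obtain ⟨B, hB⟩ := LinearMap.BilinMap.toQuadraticMap_surjective Q
  have hBg : LinearMap.BilinMap.toQuadraticMap (B.compl₁₂ g g) = Q.comp g := by
    ext x; simp [← hB]
  change hd (QuadGrp.coeffs b _ (Q.comp g)) = _ * hd (QuadGrp.coeffs b _ Q)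
  rw [coeffs_eq_co b _ _ hBg, coeffs_eq_co b _ _ hB, ← LinearMap.det_toMatrix b]
  convert hd_substitution (Matrix.of fun i j => B (b i) (b j)) (LinearMap.toMatrix b b g) using 3
  ext i j
  simp only [Matrix.of_apply, LinearMap.compl₁₂_apply, Matrix.mul_apply, Matrix.transpose_apply,
    LinearMap.toMatrix_apply, Finset.sum_mul]
  conv_lhs => rw [← b.sum_repr (g (b i)), ← b.sum_repr (g (b j))]
  simp only [map_sum, map_smul, LinearMap.coe_sum, Finset.sum_apply, LinearMap.smul_apply,
    smul_eq_mul, Finset.mul_sum]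
  exact Finset.sum_congr rfl fun c _ => Finset.sum_congr rfl fun d _ => by ring

end HalfDisc

end Groth.Agent.QuadGrpLib
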