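import Mathlib.Algebra.MvPolynomial.Equiv
import Mathlib.Algebra.Polynomial.AlgebraMap
import Mathlib.RingTheory.Ideal.Operations
import Mathlib.Algebra.GroupWithZero.NonZeroDivisors

/-!
# Polynomials whose coefficients generate the unit ideal are nonzerodivisors
-/

set_option autoImplicit false

universe u v

open MvPolynomial

namespace Groth.Agent.QuadGrpLib

variable {R : Type u} [CommRing R]

/-- A finite family of univariate polynomials whose coefficients have no common annihilator has no
common annihilator. -/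
lemma poly_eq_zero_of_mul_eq_zero {S : Type v} [CommRing S] (T : Finset (Polynomial S))
    (h : ∀ s : S, (∀ p ∈ T, ∀ i, s * p.coeff i = 0) → s = 0) (a : Polynomial S)
    (ha : ∀ p ∈ T, a * p = 0) : a = 0 := by
  classical
  by_contra ha0
  let N := T.sup Polynomial.natDegree + 1
  let e := T.equivFin
  let Q : Polynomial S := ∑ p : T, (p : Polynomial S) * Polynomial.X ^ ((e p : ℕ) * N)
  have hQ : a * Q = 0 := by
    simp only [Q, Finset.mul_sum, ← mul_assoc]
    exact Finset.sum_eq_zero fun p _ => by rw [ha p p.2, zero_mul]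
  have hQz : Q ∉ nonZeroDivisors (Polynomial S) := fun hn =>
    ha0 ((mem_nonZeroDivisors_iff.1 hn).2 a hQ)
  rw [Polynomial.mem_nonZeroDivisors_iff] at hQz
  push Not at hQz
  obtain ⟨s, hs, hs0⟩ := hQz
  refine hs0 (h s fun p hp i => ?_)
  have hdeg : ∀ q : T, (q : Polynomial S).natDegree < N := fun q =>
    Nat.lt_succ_of_le (Finset.le_sup (f := Polynomial.natDegree) q.2)
  by_cases hi : N ≤ i
  · rw [Polynomial.coeff_eq_zero_of_natDegree_lt (lt_of_lt_of_le (hdeg ⟨p, hp⟩) hi), mul_zero]
  have hco : Q.coeff (i + (e ⟨p, hp⟩ : ℕ) * N) = p.coeff i := by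
    simp only [Q, Polynomial.finsetSum_coeff]
    rw [Finset.sum_eq_single (⟨p, hp⟩ : T)]
    · simp [Polynomial.coeff_mul_X_pow]
    · intro q _ hq
      rw [Polynomial.coeff_mul_X_pow']
      split_ifs with hle
      · refine Polynomial.coeff_eq_zero_of_natDegree_lt (lt_of_lt_of_le (hdeg q) ?_)
        have hne : (e q : ℕ) ≠ (e ⟨p, hp⟩ : ℕ) := fun h => hq (e.injective (Fin.ext h))
        rcases lt_or_gt_of_ne hne with h | h
        · have := Nat.mul_le_mul_right N (Nat.succ_le_of_lt h)
          rw [Nat.succ_mul] at this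
          omega
        · have := Nat.mul_le_mul_right N (Nat.succ_le_of_lt h)
          rw [Nat.succ_mul] at this
          omega
      · rfl
    · simp
  rw [← hco, ← smul_eq_mul, ← Polynomial.coeff_smul, hs, Polynomial.coeff_zero]

lemma mv_eq_zero_of_mul_eq_zero : ∀ (n : ℕ) (T : Finset (MvPolynomial (Fin n) R)),
    (∀ r : R, (∀ p ∈ T, ∀ d, r * coeff d p = 0) → r = 0) →
    ∀ a : MvPolynomial (Fin n) R, (∀ p ∈ T, a * p = 0) → a = 0
  | 0, T, h, a, ha => by
    have he : ∀ q : MvPolynomial (Fin 0) R, q = C (coeff 0 q) := fun q => by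
      ext d; rw [show d = 0 from Subsingleton.elim _ _, coeff_zero_C]
    rw [he a, h (coeff 0 a) fun p hp d => ?_, C_0]
    rw [show d = 0 from Subsingleton.elim _ _]
    have := congrArg (coeff 0) (ha p hp)
    rwa [he a, coeff_C_mul, coeff_zero] at this
  | n + 1, T, h, a, ha => by
    classical
    let e := finSuccEquiv R n
    apply e.injective
    rw [map_zero]
    refine poly_eq_zero_of_mul_eq_zero (T.image e) (fun s hs => ?_) (e a) (fun q hq => ?_)
    · refine mv_eq_zero_of_mul_eq_zero n
        (T.biUnion fun p => (e p).support.image (e p).coeff) (fun r hr => h r fun p hp d => ?_) s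
        (fun q hq => ?_)
      · have hd : coeff d p = coeff d.tail ((e p).coeff (d 0)) := by
          rw [finSuccEquiv_coeff_coeff, Finsupp.cons_tail]
        rw [hd]
        by_cases h0 : d 0 ∈ (e p).support
        · exact hr _ (Finset.mem_biUnion.2 ⟨p, hp, Finset.mem_image_of_mem _ h0⟩) _
        · rw [Polynomial.notMem_support_iff.1 h0, coeff_zero, mul_zero]
      · obtain ⟨p, hp, hq⟩ := Finset.mem_biUnion.1 hq
        obtain ⟨i, -, rfl⟩ := Finset.mem_image.1 hq
        exact hs _ (Finset.mem_image_of_mem _ hp) i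
    · obtain ⟨p, hp, rfl⟩ := Finset.mem_image.1 hq
      rw [← map_mul, ha p hp, map_zero]

/-- A polynomial whose values at points of `R` generate the unit ideal is a nonzerodivisor. -/
theorem mem_nonZeroDivisors_of_eval {σ : Type v} [Finite σ] (p : MvPolynomial σ R)
    (h : Ideal.span (Set.range fun v : σ → R => eval v p) = ⊤) :
    p ∈ nonZeroDivisors (MvPolynomial σ R) := by
  classical
  haveI := Fintype.ofFinite σ
  let e := renameEquiv R (Fintype.equivFin σ)
  refine mem_nonZeroDivisors_iff_right.2 fun a ha => ?_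
  apply e.injective
  rw [map_zero]
  refine mv_eq_zero_of_mul_eq_zero _ {e p} (fun r hr => ?_) (e a) (fun q hq => ?_)
  · have hle : Ideal.span (Set.range fun v : σ → R => eval v p) ≤
        LinearMap.ker (LinearMap.toSpanSingleton R R r) := by
      rw [Ideal.span_le]
      rintro _ ⟨v, rfl⟩
      rw [SetLike.mem_coe, LinearMap.mem_ker, LinearMap.toSpanSingleton_apply, smul_eq_mul]
      change eval v p * r = 0
      rw [eval_eq, Finset.sum_mul]
      refine Finset.sum_eq_zero fun d _ => ?_
      have hr' := hr (e p) (Finset.mem_singleton_self _) (d.mapDomain (Fintype.equivFin σ))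
      simp only [e, renameEquiv_apply, coeff_rename_mapDomain _ (Fintype.equivFin σ).injective] at hr'
      rw [mul_right_comm, mul_comm _ r, hr', zero_mul]
    have h1 := hle (h ▸ Submodule.mem_top : (1 : R) ∈ Ideal.span _)
    rwa [LinearMap.mem_ker, LinearMap.toSpanSingleton_apply, one_smul] at h1
  · rw [Finset.mem_singleton] at hq
    rw [hq, ← map_mul, ha, map_zero]

end Groth.Agent.QuadGrpLib
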