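import Groth.Agent.QuadGrpLib.Generic
import Groth.Agent.QuadGrpLib.Polar
import Mathlib.RingTheory.Ideal.Quotient.Operations

/-!
# An endomorphism commuting with products of reflections is a scalar
-/

set_option autoImplicit false

universe u v

open Matrix

namespace Groth.Agent.QuadGrpLib

variable {R : Type u} [CommRing R]

section Linear

variable {n : ℕ}

/-- One half of the elimination: `φ i = Δ`, `φ j = 0`. -/
lemma elim_half (hn : 3 ≤ n) (G : Matrix (Fin n) (Fin n) R) (φ ψ : Fin n → R) (Δ : R)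
    {i j : Fin n} (hij : i ≠ j) (hi : φ i = Δ) (hj : φ j = 0)
    (E : ∀ a c l, φ a * G l c - φ c * G l a =
      ψ a * (if l = c then (1 : R) else 0) - ψ c * (if l = a then (1 : R) else 0)) :
    (∀ l, l ≠ j → Δ ^ 2 * G l j = 0) ∧
      ((∀ l, l ≠ i → Δ ^ 2 * G l i = 0) →
        ∀ l w, l ≠ i → w ≠ i → w ≠ j →
          Δ ^ 3 * G l w = if l = w then Δ ^ 3 * G j j else 0) := by
  have hjj : Δ * G j j = ψ i := by
    have := E i j j; rw [hi, hj, if_pos rfl, if_neg (Ne.symm hij)] at this
    linear_combination this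
  have hout : ∀ l, l ≠ i → l ≠ j → Δ * G l j = 0 := fun l h1 h2 => by
    have := E i j l; rw [hi, hj, if_neg h2, if_neg h1] at this
    linear_combination this
  obtain ⟨w, hwi, hwj⟩ : ∃ w : Fin n, w ≠ i ∧ w ≠ j := by
    have hc : ({i, j} : Finset (Fin n)).card < (Finset.univ : Finset (Fin n)).card := by
      rw [Finset.card_univ, Fintype.card_fin, Finset.card_pair hij]; omega
    obtain ⟨w, -, hw⟩ := Finset.exists_mem_notMem_of_card_lt_card hc
    simp only [Finset.mem_insert, Finset.mem_singleton, not_or] at hw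
    exact ⟨w, hw.1, hw.2⟩
  have hψ : Δ * ψ j = 0 := by
    have := E w j w; rw [hj, if_neg hwj, if_pos rfl] at this
    linear_combination Δ * this - φ w * hout w hwi hwj
  have hi' : Δ ^ 2 * G i j = 0 := by
    have := E i j i; rw [hi, hj, if_neg hij, if_pos rfl] at this
    linear_combination Δ * this - hψ
  refine ⟨fun l hl => ?_, fun hcol l w hli hwi hwj => ?_⟩
  · rcases eq_or_ne l i with rfl | h
    · exact hi'
    · linear_combination Δ * hout l h hl
  · have := E i w l; rw [hi, if_neg hli] at this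
    split_ifs with h
    · rw [if_pos h] at this
      linear_combination Δ ^ 2 * this + φ w * hcol l hli - Δ ^ 2 * hjj
    · rw [if_neg h] at this
      linear_combination Δ ^ 2 * this + φ w * hcol l hli

lemma elim_minor (hn : 3 ≤ n) (G : Matrix (Fin n) (Fin n) R) (φ ψ φ' ψ' : Fin n → R) (Δ : R)
    {i j : Fin n} (hij : i ≠ j) (hi : φ i = Δ) (hj : φ j = 0) (hi' : φ' i = 0) (hj' : φ' j = Δ)
    (E : ∀ a c l, φ a * G l c - φ c * G l a =
      ψ a * (if l = c then (1 : R) else 0) - ψ c * (if l = a then (1 : R) else 0))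
    (E' : ∀ a c l, φ' a * G l c - φ' c * G l a =
      ψ' a * (if l = c then (1 : R) else 0) - ψ' c * (if l = a then (1 : R) else 0))
    (l w : Fin n) : (l ≠ w → Δ ^ 3 * G l w = 0) ∧ Δ ^ 3 * (G w w - G j j) = 0 := by
  obtain ⟨hJ, hA⟩ := elim_half hn G φ ψ Δ hij hi hj E
  obtain ⟨hI, hB⟩ := elim_half hn G φ' ψ' Δ hij.symm hj' hi' E'
  have hA := hA hI
  have hB := hB hJ
  obtain ⟨k, hki, hkj⟩ : ∃ k : Fin n, k ≠ i ∧ k ≠ j := by
    have hc : ({i, j} : Finset (Fin n)).card < (Finset.univ : Finset (Fin n)).card := by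
      rw [Finset.card_univ, Fintype.card_fin, Finset.card_pair hij]; omega
    obtain ⟨w, -, hw⟩ := Finset.exists_mem_notMem_of_card_lt_card hc
    simp only [Finset.mem_insert, Finset.mem_singleton, not_or] at hw
    exact ⟨w, hw.1, hw.2⟩
  have hiijj : Δ ^ 3 * (G i i - G j j) = 0 := by
    have h1 := hA k k hki hki hkj
    have h2 := hB k k hkj hkj hki
    rw [if_pos rfl] at h1 h2
    linear_combination h1 - h2
  refine ⟨fun hlw => ?_, ?_⟩
  · rcases eq_or_ne w j with rfl | hwj
    · linear_combination Δ * hJ l hlw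
    rcases eq_or_ne w i with rfl | hwi
    · linear_combination Δ * hI l hlw
    rcases eq_or_ne l i with rfl | hli
    · simpa [hlw] using hB l w hij hwj hwi
    · simpa [hlw] using hA l w hli hwi hwj
  · rcases eq_or_ne w j with rfl | hwj
    · rw [sub_self, mul_zero]
    rcases eq_or_ne w i with rfl | hwi
    · exact hiijj
    · have h1 := hA w w hwi hwi hwj
      rw [if_pos rfl] at h1
      linear_combination h1

end Linear

section Minors

variable {n : ℕ}

/-- The half-discriminant of a diagonal table vanishes modulo two. -/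
lemma hd_diagonal_eq_zero (h2 : (2 : R) = 0) (hn : Odd n) (hn2 : 2 ≤ n) (a : Sym2 (Fin n) → R)
    (ha : ∀ i j, i ≠ j → a (Sym2.mk i j) = 0) : hd a = 0 := by
  classical
  let U := MvPolynomial (Fin n) ℤ
  let a₀ : Sym2 (Fin n) → U := co (Matrix.diagonal fun i => MvPolynomial.X i)
  have hU : (2 : U) ≠ 0 := fun h => by
    have := congrArg (MvPolynomial.constantCoeff : U →+* ℤ) h
    simp [map_ofNat] at this
  have h0 : hd a₀ = 2 ^ (n - 1) * ∏ i, (MvPolynomial.X i : U) := by
    apply mul_left_cancel₀ hU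
    rw [two_mul_hd hn, polarOf_co, Matrix.diagonal_transpose, Matrix.diagonal_add,
      Matrix.det_diagonal, ← mul_assoc, ← pow_succ', Nat.sub_add_cancel (by omega)]
    simp only [← two_mul, Finset.prod_mul_distrib, Finset.prod_const, Finset.card_univ,
      Fintype.card_fin]
  let f : U →+* R := MvPolynomial.eval₂Hom (Int.castRingHom R) fun i => a (Sym2.mk i i)
  have hfa : f ∘ a₀ = a := by
    funext z
    induction z using Sym2.ind with
    | h i j =>
      simp only [a₀, Function.comp_apply, co_mk]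
      split_ifs with h
      · subst h; rw [Matrix.diagonal_apply_eq]; exact MvPolynomial.eval₂Hom_X' _ _ _
      · rw [Matrix.diagonal_apply_ne _ h, Matrix.diagonal_apply_ne _ (Ne.symm h), add_zero, map_zero,
          ha i j h]
  have := congrArg f h0
  rw [map_hd, hfa, map_mul, map_pow, map_ofNat, h2, zero_pow (by omega), zero_mul] at this
  exact this

variable {M : Type v} [AddCommGroup M] [Module R M]

/-- The two by two minors of the polar matrix generate the unit ideal. -/
theorem span_minors_eq_top (hn : 2 ≤ n) (b : Module.Basis (Fin n) R M) (Q : QuadraticForm R M)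
    (hQ : QuadGrp.IsRegular Q ∨ (Odd n ∧ QuadGrp.IsSemiregular b (LinearEquiv.refl R R) Q)) :
    Ideal.span (Set.range fun p : (Fin n × Fin n) × (Fin n × Fin n) =>
      polarMat b Q p.1.1 p.2.1 * polarMat b Q p.1.2 p.2.2 -
        polarMat b Q p.1.1 p.2.2 * polarMat b Q p.1.2 p.2.1) = ⊤ := by
  classical
  by_contra hne
  obtain ⟨m, hm, hle⟩ := Ideal.exists_le_maximal _ hne
  let π := Ideal.Quotient.mk m
  letI := Ideal.Quotient.field m
  set P := (polarMat b Q).map π with hP
  have hminor : ∀ a a' c c', P a c * P a' c' - P a c' * P a' c = 0 := fun a a' c c' => by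
    simp only [hP, Matrix.map_apply, ← map_mul, ← map_sub, π, Ideal.Quotient.eq_zero_iff_mem]
    exact hle (Ideal.subset_span ⟨((a, a'), (c, c')), rfl⟩)
  have hsymm : ∀ i j, P i j = P j i := fun i j => by
    simp only [hP, Matrix.map_apply, polarMat, Matrix.of_apply, QuadraticMap.polar_comm Q (b i)]
  have hinv : ∀ Y : Matrix (Fin n) (Fin n) (R ⧸ m), Y * P ≠ 1 := fun Y hY => by
    haveI : Nonempty (Fin n) := ⟨⟨0, by omega⟩⟩
    have hrow : ∀ k c c', (Y * P) k c * P ⟨0, by omega⟩ c' - (Y * P) k c' * P ⟨0, by omega⟩ c = 0 := by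
      intro k c c'
      simp only [Matrix.mul_apply, Finset.sum_mul, ← Finset.sum_sub_distrib]
      refine Finset.sum_eq_zero fun x _ => ?_
      linear_combination Y k x * hminor x ⟨0, by omega⟩ c c'
    have hz : ∀ c, P ⟨0, by omega⟩ c = 0 := fun c => by
      obtain ⟨k, hk⟩ : ∃ k : Fin n, k ≠ c := by
        rcases eq_or_ne c ⟨0, by omega⟩ with h | h
        · exact ⟨⟨1, by omega⟩, by rw [h]; simp [Fin.ext_iff]⟩
        · exact ⟨_, Ne.symm h⟩
      simpa [hY, hk] using hrow k k c
    have h00 := congrFun (congrFun hY ⟨0, by omega⟩) ⟨0, by omega⟩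
    rw [Matrix.mul_apply, Finset.sum_eq_zero fun x _ => by rw [hsymm, hz, mul_zero],
      Matrix.one_apply_eq] at h00
    exact zero_ne_one h00
  rcases hQ with hQ | ⟨hodd, hQ⟩
  · obtain ⟨Y, hY⟩ := exists_left_inverse_polarMat b hQ
    exact hinv (Y.map π) (by rw [hP, ← Matrix.map_mul, hY, Matrix.map_one π (map_zero π) (map_one π)])
  · let a : Sym2 (Fin n) → R ⧸ m := π ∘ QuadGrp.coeffs b (LinearEquiv.refl R R) Q
    have hPa : P = polarOf a := by rw [hP, polarMat_eq_polarOf, map_polarOf]
    have hu : IsUnit (hd a) := by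
      rw [← map_hd]
      exact IsUnit.map π hQ
    by_cases h2 : (2 : R ⧸ m) = 0
    · refine hu.ne_zero (hd_diagonal_eq_zero h2 hodd hn a fun i j hij => ?_)
      have hd0 : ∀ k, P k k = 0 := fun k => by
        rw [hPa, polarOf, Matrix.of_apply, if_pos rfl, h2, zero_mul]
      have h := hminor i j i j
      rw [hd0, hd0, hsymm j i, zero_mul, zero_sub, neg_eq_zero, mul_self_eq_zero, hPa, polarOf,
        Matrix.of_apply, if_neg hij] at h
      exact h
    · have hdet : IsUnit P.det := by
        rw [hPa, ← two_mul_hd hodd]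
        exact (isUnit_iff_ne_zero.2 h2).mul hu
      exact hinv P⁻¹ (Matrix.nonsing_inv_mul P hdet)

end Minors

section Main

variable {M : Type v} [AddCommGroup M] [Module R M] {n : ℕ}

/-- A linear automorphism commuting with all products of two reflections is a scalar. -/
theorem scalar_of_commRefl [Module.Free R M] (hn : 3 ≤ n) (b : Module.Basis (Fin n) R M)
    (Q : QuadraticForm R M)
    (hQ : QuadGrp.IsRegular Q ∨ (Odd n ∧ QuadGrp.IsSemiregular b (LinearEquiv.refl R R) Q))
    (g : M ≃ₗ[R] M) (hg : g ∈ QuadGrp.O Q) (H : CommRefl g Q) :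
    ∃ c : R, c * c = 1 ∧ ∀ v, g v = c • v := by
  classical
  have hmin := span_minors_eq_top (by omega) b Q hQ
  have hbspan : Ideal.span (Set.range fun p : M × M => QuadraticMap.polar Q p.1 p.2) = ⊤ := by
    rw [eq_top_iff, ← hmin, Ideal.span_le]
    rintro _ ⟨p, rfl⟩
    exact Ideal.sub_mem _ (Ideal.mul_mem_right _ _ (Ideal.subset_span ⟨(b p.1.1, b p.2.1), rfl⟩))
      (Ideal.mul_mem_right _ _ (Ideal.subset_span ⟨(b p.1.1, b p.2.2), rfl⟩))
  have hstar := pointwise_of_commRefl b H hbspan
  set G := LinearMap.toMatrix b b g.toLinearMap with hG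
  have hE : ∀ (x : M) (a c l : Fin n),
      QuadraticMap.polar Q (b a) x * G l c - QuadraticMap.polar Q (b c) x * G l a =
        QuadraticMap.polar Q (b a) (g x) * (if l = c then (1 : R) else 0) -
          QuadraticMap.polar Q (b c) (g x) * (if l = a then (1 : R) else 0) := by
    intro x a c l
    have := congrArg (fun v => b.repr v l) (hstar x (b a) (b c))
    simpa [hG, LinearMap.toMatrix_apply, Finsupp.single_apply, eq_comm] using this
  let c₀ := G ⟨0, by omega⟩ ⟨0, by omega⟩
  have key : ∀ l w : Fin n, (l ≠ w → G l w = 0) ∧ G w w = c₀ := by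
    have main : ∀ (p : (Fin n × Fin n) × (Fin n × Fin n)) (l w : Fin n),
        let Δ := polarMat b Q p.1.1 p.2.1 * polarMat b Q p.1.2 p.2.2 -
          polarMat b Q p.1.1 p.2.2 * polarMat b Q p.1.2 p.2.1
        (l ≠ w → Δ ^ 3 * G l w = 0) ∧ Δ ^ 3 * (G w w - c₀) = 0 := by
      rintro ⟨⟨x, y⟩, ⟨i, j⟩⟩ l w Δ
      rcases eq_or_ne i j with rfl | hij
      · have : Δ = 0 := by simp [Δ]
        simp [this]
      let x₁ : M := polarMat b Q y j • b x - polarMat b Q x j • b y
      let x₂ : M := polarMat b Q x i • b y - polarMat b Q y i • b x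
      have hval : ∀ (s t : R) (u v : Fin n) (a : Fin n),
          QuadraticMap.polar Q (b a) (s • b u - t • b v) =
            s * polarMat b Q u a - t * polarMat b Q v a := by
        intro s t u v a
        simp only [QuadraticMap.polar_comm Q (b a), QuadraticMap.polar_sub_left,
          QuadraticMap.polar_smul_left, smul_eq_mul, polarMat, Matrix.of_apply]
      have hm := fun l w => elim_minor hn G (fun a => QuadraticMap.polar Q (b a) x₁)
        (fun a => QuadraticMap.polar Q (b a) (g x₁)) (fun a => QuadraticMap.polar Q (b a) x₂)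
        (fun a => QuadraticMap.polar Q (b a) (g x₂)) Δ hij
        (by simp only [x₁, hval, Δ]; ring) (by simp only [x₁, hval, Δ]; ring)
        (by simp only [x₂, hval, Δ]; ring) (by simp only [x₂, hval, Δ]; ring)
        (hE x₁) (hE x₂) l w
      refine ⟨(hm l w).1, ?_⟩
      have h1 := (hm l w).2
      have h2 := (hm l ⟨0, by omega⟩).2
      linear_combination h1 - h2
    have hz : ∀ r : R, (∀ p : (Fin n × Fin n) × (Fin n × Fin n),
        (polarMat b Q p.1.1 p.2.1 * polarMat b Q p.1.2 p.2.2 -
          polarMat b Q p.1.1 p.2.2 * polarMat b Q p.1.2 p.2.1) ^ 3 * r = 0) → r = 0 := by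
      intro r hr
      have hle : Ideal.span ((fun x : R => x ^ 3) '' Set.range fun p : (Fin n × Fin n) × (Fin n × Fin n) =>
          polarMat b Q p.1.1 p.2.1 * polarMat b Q p.1.2 p.2.2 -
            polarMat b Q p.1.1 p.2.2 * polarMat b Q p.1.2 p.2.1) ≤
          LinearMap.ker (LinearMap.toSpanSingleton R R r) := by
        rw [Ideal.span_le]
        rintro _ ⟨_, ⟨p, rfl⟩, rfl⟩
        exact hr p
      have h1 := hle (Ideal.span_pow_eq_top _ hmin 3 ▸ Submodule.mem_top : (1 : R) ∈ _)
      rwa [LinearMap.mem_ker, LinearMap.toSpanSingleton_apply, one_smul] at h1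
    exact fun l w => ⟨fun h => hz _ fun p => (main p l w).1 h,
      sub_eq_zero.1 (hz _ fun p => (main p l w).2)⟩
  have hgc : g.toLinearMap = c₀ • LinearMap.id := by
    refine b.ext fun w => b.ext_elem fun l => ?_
    have hl : b.repr (g (b w)) l = G l w := by rw [hG, LinearMap.toMatrix_apply]; rfl
    simp only [LinearEquiv.coe_coe, LinearMap.smul_apply, LinearMap.id_apply, map_smul,
      Finsupp.smul_apply, Module.Basis.repr_self, smul_eq_mul, hl]
    rcases eq_or_ne l w with rfl | h
    · rw [Finsupp.single_eq_same, mul_one, (key l l).2]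
    · rw [Finsupp.single_eq_of_ne h, mul_zero, (key l w).1 h]
  have hgv : ∀ v, g v = c₀ • v := fun v => LinearMap.congr_fun hgc v
  refine ⟨c₀, ?_, hgv⟩
  have hQspan : Ideal.span (Set.range Q) = ⊤ := by
    rw [eq_top_iff, ← hbspan, Ideal.span_le]
    rintro _ ⟨⟨y, z⟩, rfl⟩
    have hm : ∀ y : M, Q y ∈ Ideal.span (Set.range Q) := fun y => Ideal.subset_span ⟨y, rfl⟩
    exact Ideal.sub_mem _ (Ideal.sub_mem _ (hm _) (hm _)) (hm _)
  have hle : Ideal.span (Set.range Q) ≤
      LinearMap.ker (LinearMap.toSpanSingleton R R (c₀ * c₀ - 1)) := by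
    rw [Ideal.span_le]
    rintro _ ⟨v, rfl⟩
    rw [SetLike.mem_coe, LinearMap.mem_ker, LinearMap.toSpanSingleton_apply, smul_eq_mul]
    have := hg v
    rw [hgv, QuadraticMap.map_smul, smul_eq_mul] at this
    linear_combination this
  have h1 := hle (hQspan ▸ Submodule.mem_top : (1 : R) ∈ _)
  rwa [LinearMap.mem_ker, LinearMap.toSpanSingleton_apply, one_smul, sub_eq_zero] at h1

lemma baseChange_scalar_comm (g : M ≃ₗ[R] M) {c : R} (hc : ∀ v, g v = c • v) (A : Type u)
    [CommRing A] [Algebra R A] (h : TensorProduct R A M ≃ₗ[A] TensorProduct R A M) :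
    g.baseChange R A M M * h = h * g.baseChange R A M M := by
  have hs : ∀ z, g.baseChange R A M M z = algebraMap R A c • z := by
    intro z
    induction z using TensorProduct.induction_on with
    | zero => simp
    | tmul a x => rw [LinearEquiv.baseChange_tmul, hc, TensorProduct.tmul_smul, algebraMap_smul]
    | add z w hz hw => rw [map_add, hz, hw, smul_add]
  ext z
  simp only [LinearEquiv.mul_apply, hs, map_smul]

end Main

end Groth.Agent.QuadGrpLib
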